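import Cfsg.Agent.Lib.Classical.SUThree.HessMain
import Cfsg.Agent.Lib.Classical.SUThree.Bridge
import Cfsg.Agent.Lib.Classical.LinNine.Kern

/-!
Degree three inputs for degree nine: isometries, all isometries over the field with four elements normalise the
standard group, and a group of isometries normalised by the diagonal element either normalises the standard group or
contains the special unitary group.
-/

set_option autoImplicit false
set_option linter.unusedSectionVars false
set_option maxHeartbeats 1000000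

namespace Cfsg.Agent.Classical.UnitNine

open Matrix MaxTv HeisenbergThree SLThree.Hessian LinNine
open SUThree.Hess (frm Std PX mkX coe_mkX mkX_surjective)

universe u

variable {F : Type u} [Field F] [Fintype F] {p : ℕ} {w : Fˣ}

local notation "G3" => GL (Fin 3) F
local notation "M3" => Matrix (Fin 3) (Fin 3) F
local notation "V" => Fin 3 → F
local notation "G9" => GL (Fin 3 × Fin 3) F
local notation "M9" => Matrix (Fin 3 × Fin 3) (Fin 3 × Fin 3) F
local notation "S2" => Matrix (Fin 2) (Fin 2) (ZMod 3)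

/-- Preserving the standard hermitian form. -/
def Isom {ι : Type} [Fintype ι] [DecidableEq ι] (p : ℕ) (g : GL ι F) : Prop :=
  ∀ x y : ι → F, (∑ i, ((g : Matrix ι ι F) *ᵥ x) i * (((g : Matrix ι ι F) *ᵥ y) i) ^ p) = ∑ i, x i * y i ^ p

/-- The isometries. -/
def isoGrp (ι : Type) [Fintype ι] [DecidableEq ι] (F : Type u) [Field F] [Fintype F] (p : ℕ) : Subgroup (GL ι F) where
  carrier := {g | Isom p g}
  one_mem' x y := by simp
  mul_mem' {g h} hg hh x y := by
    rw [Units.val_mul, ← Matrix.mulVec_mulVec, ← Matrix.mulVec_mulVec, hg, hh]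
  inv_mem' {g} hg x y := by
    rw [← hg, Matrix.mulVec_mulVec, Matrix.mulVec_mulVec, Units.mul_inv, Matrix.one_mulVec, Matrix.one_mulVec]

theorem neg_one_pow' (hp : p.Prime) (hF : Fintype.card F = p ^ 2) : (-1 : F) ^ p = -1 := by
  haveI : Fact p.Prime := ⟨hp⟩
  haveI := SUThree.Hess.charP_of hp hF
  rw [← frobenius_def, map_neg, map_one]

theorem neg_pow' (hp : p.Prime) (hF : Fintype.card F = p ^ 2) (a : F) : (-a) ^ p = -a ^ p := by
  rw [neg_pow, neg_one_pow' hp hF, neg_one_mul]

theorem negSwap_iso' (hp : p.Prime) (hF : Fintype.card F = p ^ 2) : Isom p (negSwap : G3) := fun x y => by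
  simp [Fin.sum_univ_three, coe_negSwap, Matrix.mulVec, dotProduct, neg_pow' hp hF]
  ring

theorem blk_mulVec (c : Fin 3 → G3) (x : Fin 3 × Fin 3 → F) (b a : Fin 3) :
    (((blk c : G9) : M9) *ᵥ x) (b, a) = ((c a : M3) *ᵥ fun b' => x (b', a)) b := by
  simp [Matrix.mulVec, dotProduct, Fintype.sum_prod_type, blk_apply, ite_mul]

theorem blk_iso {c : Fin 3 → G3} (h : ∀ a, Isom p (c a)) : Isom p (blk c : G9) := fun x y => by
  rw [Fintype.sum_prod_type_right, Fintype.sum_prod_type_right]
  refine Finset.sum_congr rfl fun a _ => ?_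
  simp only [blk_mulVec]
  exact h a _ _

theorem iso_of_blk (hp : p ≠ 0) {c : Fin 3 → G3} (h : Isom p (blk c : G9)) (a : Fin 3) : Isom p (c a) := fun x y => by
  have h1 := h (fun i => if i.2 = a then x i.1 else 0) (fun i => if i.2 = a then y i.1 else 0)
  rw [Fintype.sum_prod_type_right, Fintype.sum_prod_type_right] at h1
  simp only [blk_mulVec] at h1
  rw [Fintype.sum_eq_single (f := fun a' => ∑ b, (if a' = a then x b else 0) * (if a' = a then y b else 0) ^ p) a
    fun a' ha => by simp [ha, zero_pow hp]] at h1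
  rw [Fintype.sum_eq_single a fun a' ha => by
    simp [ha, show (fun _ : Fin 3 => (0 : F)) = 0 from rfl, Matrix.mulVec_zero]] at h1
  simpa using h1

theorem sw_iso (hp : p.Prime) (hF : Fintype.card F = p ^ 2) : Isom p (sw : G9) := fun x y => by
  have h : ∀ (z : Fin 3 × Fin 3 → F) i, (((sw : G9) : M9) *ᵥ z) i = -z i.swap := fun z i => by
    rw [Matrix.mulVec, dotProduct, Finset.sum_eq_single i.swap (fun r _ hr => by
      rw [sw_apply, if_neg fun e => hr (by rw [e, Prod.swap_swap]), zero_mul]) (by simp), sw_apply,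
      if_pos (Prod.swap_swap i).symm, neg_one_mul]
  simp only [h, neg_pow' hp hF, neg_mul_neg]
  exact (Equiv.prodComm (Fin 3) (Fin 3)).sum_comp fun i => x i * y i ^ p

theorem kr_iso (hp : p.Prime) (hF : Fintype.card F = p ^ 2) {g h : G3} (hg : Isom p g) (hh : Isom p h) :
    Isom p (kr (g, h) : G9) := by
  have h1 : ∀ g : G3, Isom p g → kr (g, 1) ∈ isoGrp (Fin 3 × Fin 3) F p := fun g hg =>
    blk_const g ▸ blk_iso fun _ => hg
  rw [show kr (g, h) = kr (g, 1) * (sw * kr (h, 1) * sw) by rw [sw_kr, kr_mul, mul_one, one_mul]]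
  exact mul_mem (h1 g hg) (mul_mem (mul_mem (sw_iso hp hF) (h1 h hh)) (sw_iso hp hF))

theorem one_iso : Isom p (1 : G3) := (isoGrp (Fin 3) F p).one_mem

theorem lift_iso (hp : p.Prime) (hF : Fintype.card F = p ^ 2) (hp3 : p % 3 = 2) (hw : w ^ 3 = 1) (hw1 : w ≠ 1)
    {g : G3} (hg : g ∈ Subgroup.closure ({four hw hw1, dd w} : Set G3)) : Isom p g :=
  ((Subgroup.closure_le (isoGrp (Fin 3) F p)).2 (by
    rintro x (rfl | rfl)
    exacts [SUThree.Hess.four_iso hp hF hp3 hw hw1, SUThree.Hess.dd_iso hp3 hw hw1])) hg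

theorem std_iso (hp3 : p % 3 = 2) (hw : w ^ 3 = 1) (hw1 : w ≠ 1) {g : G3} (hg : g ∈ std w) : Isom p g :=
  ((Subgroup.closure_le (isoGrp (Fin 3) F p)).2 (by
    rintro x (rfl | rfl)
    exacts [SUThree.Hess.A_iso hp3 hw hw1, SUThree.Hess.cyc_iso])) hg

/-- Over the field with four elements all isometries normalise the standard group. -/
theorem acts_two (hF : Fintype.card F = 2 ^ 2) (hw : w ^ 3 = 1) (hw1 : w ≠ 1) {g : G3} (hg : Isom 2 g) :
    ∃ M : S2, Acts w g M := by
  classical
  haveI : Finite (GL (Fin 3) F) := Finite.of_injective _ Units.val_injective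
  obtain ⟨N, hN⟩ : ∃ N : Subgroup G3, N = GU 3 F 2 ⊓ Subgroup.normalizer (std w : Set G3) := ⟨_, rfl⟩
  have hGU : ∀ x : G3, Isom 2 x ↔ x ∈ GU 3 F 2 := fun x => mem_GU.symm
  have hcu : Nat.card Fˣ = 3 := by rw [Nat.card_units, Nat.card_eq_fintype_card, hF]; rfl
  have hup : Nat.card (GU 3 F 2) ≤ 648 := by
    obtain ⟨f, hf⟩ : ∃ f, f = (Matrix.GeneralLinearGroup.det (n := Fin 3) (R := F)).comp (GU 3 F 2).subtype :=
      ⟨_, rfl⟩
    have h1 : Nat.card f.ker ≤ 216 := by
      refine le_trans (Nat.card_le_card_of_injective (fun x : f.ker => (⟨(x : GU 3 F 2), (x : GU 3 F 2).2, ?_⟩ :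
        (GU 3 F 2 ⊓ Geo.specialLinear (Fin 3) F : Subgroup G3))) fun a b e => ?_)
        (le_of_eq ((Cfsg.Agent.Classical.SUThree.card_gusl hF).trans (by norm_num)))
      · have h2 : f (x : GU 3 F 2) = 1 := x.2
        simp only [hf] at h2
        exact MonoidHom.mem_ker.2 h2
      · have := congrArg Subtype.val e
        exact Subtype.ext (Subtype.ext this)
    rw [← f.ker.card_mul_index, Subgroup.index_ker]
    calc _ ≤ 216 * Nat.card Fˣ := Nat.mul_le_mul h1 (Subgroup.card_le_card_group _)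
      _ = 648 := by rw [hcu]
  have hlo : 648 ≤ Nat.card N := by
    choose L hL hLA using fun M : {M : S2 // M.det = 1} => exists_lift hw hw1 M.2
    let f : {M : S2 // M.det = 1} × (Fin 3 × (Fin 2 → ZMod 3)) → N := fun x =>
      ⟨L x.1 * (dia (fun _ => w ^ (x.2.1 : ℕ)) * mv w x.2.2), by
        have hc : dia (fun _ : Fin 3 => w ^ (x.2.1 : ℕ)) ∈ std w := by
          rw [show (fun _ : Fin 3 => w ^ (x.2.1 : ℕ)) = (fun _ => w) ^ (x.2.1 : ℕ) by funext i; simp, map_pow]
          exact pow_mem (const_mem hw) _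
        rw [hN]
        exact ⟨(hGU _).1 ((isoGrp (Fin 3) F 2).mul_mem (lift_iso Nat.prime_two hF rfl hw hw1 (hL _))
          (std_iso rfl hw hw1 (mul_mem hc (mv_mem _)))),
          mul_mem ((hLA _).mem_normalizer hw hw1) (Subgroup.le_normalizer (mul_mem hc (mv_mem _)))⟩⟩
    have hf : Function.Injective f := fun x y e => by
      have e' : L x.1 * (dia (fun _ => w ^ (x.2.1 : ℕ)) * mv w x.2.2) =
          L y.1 * (dia (fun _ => w ^ (y.2.1 : ℕ)) * mv w y.2.2) := congrArg Subtype.val e
      have hp : ∀ (k : ℕ) (v : Fin 2 → ZMod 3), pr (dia (fun _ => w ^ k) * mv w v) = pr (mv w v) := fun k v => by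
        rw [map_mul, pr_eq_one.2 ⟨((w ^ k : Fˣ) : F), by rw [coe_dia, Matrix.smul_one_eq_diagonal]⟩, one_mul]
      have h1 : x.1 = y.1 := Subtype.ext (by
        have a1 := (hLA x.1).mul hw hw1 (acts_of_pr hw hw1 (hp (x.2.1 : ℕ) x.2.2))
        have a2 := (hLA y.1).mul hw hw1 (acts_of_pr hw hw1 (hp (y.2.1 : ℕ) y.2.2))
        rw [← e'] at a2
        simpa using a1.unique hw hw1 a2)
      rw [h1, mul_right_inj] at e'
      have h2 : x.2.2 = y.2.2 := pr_mv_inj hw hw1 (by rw [← hp (x.2.1 : ℕ), e', hp])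
      rw [h2, mul_left_inj] at e'
      have h5 := congrArg (fun g : G3 => (g : M3) 0 0) e'
      simp [coe_dia] at h5
      have h3 : w ^ (x.2.1 : ℕ) = w ^ (y.2.1 : ℕ) := Units.ext (by simpa using h5)
      have h4 : (x.2.1 : ℕ) % 3 = (y.2.1 : ℕ) % 3 := by
        have := pow_inj_mod.1 h3
        rwa [orderOf_eq_prime hw hw1] at this
      exact Prod.ext h1 (Prod.ext (Fin.ext (by have := x.2.1.2; have := y.2.1.2; omega)) h2)
    refine le_trans (le_of_eq ?_) (Nat.card_le_card_of_injective f hf)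
    have h24 : Nat.card {M : S2 // M.det = 1} = 24 := card_sl2
    rw [Nat.card_prod, Nat.card_prod, h24]
    simp
  have he : N = GU 3 F 2 := Subgroup.eq_of_le_of_card_ge (hN ▸ inf_le_left) (hup.trans hlo)
  have := (hGU g).1 hg
  rw [← he, hN] at this
  exact exists_acts hw hw1 this.2

end Cfsg.Agent.Classical.UnitNine
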