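import Cfsg.Agent.Lib.Classical.UnitNine.Base

/-!
A transvection free group of isometries above the standard group and its quaternion group is not normalised by the
diagonal element: that element permutes three involutions of the image of the centraliser, one of which is distinguished.
-/

set_option autoImplicit false
set_option linter.unusedSectionVars false
set_option maxHeartbeats 1000000

namespace Cfsg.Agent.Classical.UnitNine

open Matrix MaxTv HeisenbergThree SLThree.Hessian LinNine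

universe u

variable {F : Type u} [Field F] [Fintype F] {p : ℕ} {w : Fˣ}

local notation "G3" => GL (Fin 3) F
local notation "M3" => Matrix (Fin 3) (Fin 3) F
local notation "V" => Fin 3 → F
local notation "S2" => Matrix (Fin 2) (Fin 2) (ZMod 3)

/-- An automorphism of order three of the centraliser moving one quaternion generator to the other is impossible. -/
theorem cov_false {G : Type*} [Group G] [Finite G] {h : G} {M : Type*} [Group M] [Finite M] {A : Type*} [CommGroup A]
    {π : Cn h →* M} {β : Cn h →* A} {e : A} (cov : Cov G h π β e) (h3 : ¬ 3 ∣ Nat.card (Cn h))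
    (δ : G →* G) (hδh : δ h = h) (hδ3 : ∀ x, δ (δ (δ x)) = x) {i j : Cn h} (hi : (i : G) * i = h)
    (hij : δ i = j) (hji : (j : G) * i * (j : G)⁻¹ = h * i) : False := by
  classical
  obtain ⟨n, hcard, h4, h3n, -, -, -⟩ := cov.dihedral_data h3
  obtain ⟨d, hd⟩ : ∃ d : Cn h →* Cn h, ∀ x : Cn h, (d x : G) = δ x :=
    ⟨MonoidHom.mk' (fun x => ⟨δ x, Subgroup.mem_centralizer_singleton_iff.2 (by
        have := congrArg δ (Cov.comm x)
        rw [map_mul, map_mul, hδh] at this
        exact this.symm)⟩) fun x y => Subtype.ext (map_mul δ _ _), fun x => rfl⟩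
  have hd3 : ∀ x, d (d (d x)) = x := fun x => Subtype.ext (by rw [hd, hd, hd, hδ3])
  have hcongr : ∀ {x y : Cn h}, π x = π y → π (d x) = π (d y) := fun {x y} e => by
    rcases cov.kerm e with h1 | h1
    · rw [show y = x from Subtype.ext h1]
    · rw [show y = ⟨h, cov.hC⟩ * x from Subtype.ext h1, map_mul d, map_mul,
        show d ⟨h, cov.hC⟩ = ⟨h, cov.hC⟩ from Subtype.ext (by rw [hd, hδh]),
        (cov.ker ⟨h, cov.hC⟩).2 (Or.inr rfl), one_mul]
  have hback : ∀ {x y : Cn h}, π (d x) = π (d y) → π x = π y := fun {x y} e => by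
    have := hcongr (hcongr e)
    rwa [hd3, hd3] at this
  rcases cov.split with ⟨⟨i4⟩⟩ | ⟨T, hTtop, hT, hcy, hinv⟩
  · refine h3 (dvd_trans ?_ (Subgroup.card_dvd_of_surjective π cov.surj))
    rw [Nat.card_congr i4.toEquiv, Nat.card_perm, Nat.card_eq_fintype_card, Fintype.card_fin]
    norm_num [Nat.factorial]
  haveI := hcy
  obtain ⟨c0, hgen⟩ := IsCyclic.exists_generator (α := T)
  obtain ⟨x₀, hx₀⟩ := cov.surj c0
  -- the cyclic part is invariant
  have hx₀T : π (d x₀) ∈ T := by
    by_contra hn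
    have h1 : π (d (x₀ * x₀)) = π (d 1) := by rw [map_mul, map_mul, hinv _ hn, map_one, map_one]
    have h2 := hback h1
    rw [map_mul, map_one, hx₀] at h2
    have h5 : orderOf c0 ∣ 2 := orderOf_dvd_of_pow_eq_one (Subtype.ext (by rw [pow_two]; exact h2))
    rw [orderOf_eq_card_of_forall_mem_zpowers hgen] at h5
    have hT2 : Nat.card T ≤ 2 := Nat.le_of_dvd two_pos h5
    obtain ⟨a, ha⟩ : ∃ a, a ∉ T := by
      by_contra hc
      push Not at hc
      exact hTtop (eq_top_iff.2 fun g _ => hc g)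
    have hidx : T.index = 2 := Subgroup.index_eq_two_iff.2 ⟨a, fun b => by
      by_cases hb : b ∈ T
      · exact Or.inr ⟨hb, fun h1 => ha (by simpa using mul_mem (inv_mem hb) h1)⟩
      · exact Or.inl ⟨hT _ _ hb ha, hb⟩⟩
    have hM : Nat.card M ≤ 4 := by rw [← T.card_mul_index, hidx]; omega
    have hker : Nat.card π.ker ≤ 2 := by
      refine le_trans (Nat.card_le_card_of_injective (fun x : π.ker => decide (((x : Cn h) : G) = 1))
        fun x y e => Subtype.ext (Subtype.ext ?_)) (by simp)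
      rcases (cov.ker x).1 x.2 with a1 | a1 <;> rcases (cov.ker y).1 y.2 with b1 | b1 <;>
        simp only [a1, b1] <;> simp [a1, b1, cov.inv.2] at e
    have h6 := π.ker.card_mul_index
    rw [Subgroup.index_ker, MonoidHom.range_eq_top.2 cov.surj, Subgroup.card_top, hcard] at h6
    have h7 : Nat.card π.ker * Nat.card M ≤ 2 * 4 := Nat.mul_le_mul hker hM
    have h8 : 4 ≤ n := Nat.le_of_dvd (Nat.pos_of_ne_zero fun e => h3n (e ▸ dvd_zero 3)) h4
    omega
  have hchar : ∀ x : Cn h, π x ∈ T → π (d x) ∈ T := fun x hx => by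
    obtain ⟨k, hk⟩ := mem_powers_iff_mem_zpowers.2 (hgen ⟨π x, hx⟩)
    dsimp only at hk
    rw [hcongr (show π x = π (x₀ ^ k) by rw [map_pow, hx₀, ← SubmonoidClass.coe_pow, hk]), map_pow, map_pow]
    exact pow_mem hx₀T k
  have huniq : ∀ a b : M, a ∈ T → b ∈ T → a * a = 1 → a ≠ 1 → b * b = 1 → b ≠ 1 → a = b :=
    fun a b ha hb a2 a1 b2 b1 => congrArg Subtype.val (eq_of_invol_cyclic (a := (⟨a, ha⟩ : T)) (b := ⟨b, hb⟩)
      (Subtype.ext a2) (fun e => a1 (congrArg Subtype.val e)) (Subtype.ext b2) fun e => b1 (congrArg Subtype.val e))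
  have hdi : d i = j := Subtype.ext (by rw [hd, hij])
  have hj : (j : G) * j = h := by rw [← hij, ← map_mul, hi, hδh]
  have hdj : (d j : G) * d j = h := by rw [hd, ← map_mul, hj, hδh]
  -- the two generators have different images
  have hne : π i ≠ π j := fun e => by
    have hjieq : Commute (j : G) i := by
      rcases cov.kerm e with h1 | h1
      · rw [h1]
      · rw [h1, Cov.comm i]
        exact (Commute.refl (i : G)).mul_left (Subgroup.mem_centralizer_singleton_iff.1 i.2).symm
    rw [hjieq.eq, mul_inv_cancel_right] at hji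
    exact cov.inv.2 (mul_eq_right.1 hji.symm)
  have hcomm : π j * π i = π i * π j := by
    rw [← map_mul, ← map_mul]
    have e : j * i = ⟨h, cov.hC⟩ * (i * j) := Subtype.ext (by
      show (j : G) * i = h * (i * j)
      rw [← mul_assoc, ← hji, inv_mul_cancel_right])
    rw [e, map_mul, (cov.ker ⟨h, cov.hC⟩).2 (Or.inr rfl), one_mul]
  by_cases hiT : π i ∈ T
  · have hjT : π j ∈ T := hdi ▸ hchar i hiT
    exact hne (huniq _ _ hiT hjT (cov.pi_sq hi) (cov.pi_ne hi) (cov.pi_sq hj) (cov.pi_ne hj))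
  by_cases hjT : π j ∈ T
  · have e := huniq _ _ (hchar j hjT) hjT (cov.pi_sq hdj) (cov.pi_ne hdj) (cov.pi_sq hj) (cov.pi_ne hj)
    rw [show π j = π (d i) by rw [hdi]] at hjT
    nth_rewrite 2 [← hdi] at e
    exact hne (hback e).symm
  have hijT : π (i * j) ∈ T := by rw [map_mul]; exact hT _ _ hiT hjT
  have h2 : π (i * j) * π (i * j) = 1 := by
    rw [map_mul, mul_assoc, ← mul_assoc (π j), hcomm, mul_assoc (π i), cov.pi_sq hj, mul_one, cov.pi_sq hi]
  have h1 : π (i * j) ≠ 1 := fun e => hne (by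
    rw [map_mul] at e
    rw [eq_inv_of_mul_eq_one_left e, inv_eq_of_mul_eq_one_right (cov.pi_sq hj)])
  have h2' : π (d (i * j)) * π (d (i * j)) = 1 := by
    rw [← map_mul, ← map_mul, hcongr (show π (i * j * (i * j)) = π 1 by rw [map_mul, h2, map_one]), map_one, map_one]
  have h1' : π (d (i * j)) ≠ 1 := fun e => h1 (by
    rw [hback (show π (d (i * j)) = π (d 1) by rw [e, map_one, map_one]), map_one])
  have e := huniq _ _ (hchar _ hijT) hijT h2' h1' h2 h1
  rw [map_mul, map_mul, map_mul, hdi, ← hcomm] at e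
  have e2 : π (d j) = π i := mul_left_cancel e
  -- turning once more
  have e3 : π (d (d j)) = π (d i) := hcongr e2
  rw [hdi] at e3
  have e4 : π (d (d (d i))) = π j := by rw [hdi]; exact e3
  rw [hd3] at e4
  exact hne e4

/-- The diagonal element does not normalise such a group. -/
theorem false_of_dd {X : Subgroup G3} (c : SUThree.Hess.Std X w p) (hd : ∀ x ∈ X, dd w * x * (dd w)⁻¹ ∈ X) : False := by
  classical
  haveI : Finite (GL (Fin 3) F) := Finite.of_injective _ Units.val_injective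
  haveI : Finite (Matrix.ProjGenLinGroup (Fin 3) F) := Finite.of_surjective _ Matrix.ProjGenLinGroup.mk_surjective
  obtain ⟨M, _, _, π, β, cov, -, -, -⟩ := c.exists_cov
  have hw := c.hw
  have hw1 := c.hw1
  let δ : SUThree.Hess.PX X →* SUThree.Hess.PX X := ((MulAut.conj (pr (dd w : G3))).toMonoidHom.comp (SUThree.Hess.PX X).subtype).codRestrict (SUThree.Hess.PX X)
    (fun x => by
      obtain ⟨g, hg⟩ := SUThree.Hess.mkX_surjective x
      refine ⟨dd w * (g : G3) * (dd w)⁻¹, hd _ g.2, ?_⟩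
      rw [map_mul, map_mul, map_inv, ← hg]
      rfl)
  have hδ : ∀ x : SUThree.Hess.PX X, (δ x : Matrix.ProjGenLinGroup (Fin 3) F) = pr (dd w) * x * (pr (dd w))⁻¹ := fun x => rfl
  have hδh : δ c.bh = c.bh := Subtype.ext (by
    rw [hδ, c.coe_bh, ← map_mul, dd_comm hw hw1, map_mul, mul_inv_cancel_right])
  have hdd3 : pr (dd w : G3) * pr (dd w) * pr (dd w) = 1 := by
    have h := LinNine.dd_inv (F := F) hw
    rw [inv_eq_iff_mul_eq_one, ← mul_assoc] at h
    rw [← map_mul, ← map_mul, h, map_one]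
  have hcm : ∀ (g : G3) (hg : g ∈ X), g * negSwap = negSwap * g → SUThree.Hess.mkX X ⟨g, hg⟩ ∈ Cn c.bh :=
    fun g hg h1 => Subgroup.mem_centralizer_singleton_iff.2 (Subtype.ext (by
      show pr g * pr negSwap = pr negSwap * pr g
      rw [← map_mul, ← map_mul, h1]))
  have e1 : four hw hw1 * negSwap = negSwap * four hw hw1 := by
    rw [← four_sq hw hw1, mul_assoc]
  have e2 : four' hw hw1 * negSwap = negSwap * four' hw hw1 := by
    rw [← four'_sq hw hw1, mul_assoc]
  refine cov_false cov c.not_three δ hδh (fun x => Subtype.ext ?_) (i := ⟨_, hcm _ c.hf e1⟩)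
    (j := ⟨_, hcm _ c.hf' e2⟩) (Subtype.ext ?_) (Subtype.ext ?_) (Subtype.ext ?_)
  · rw [hδ, hδ, hδ]
    calc pr (dd w) * (pr (dd w) * (pr (dd w) * (x : Matrix.ProjGenLinGroup (Fin 3) F) * (pr (dd w))⁻¹) *
          (pr (dd w))⁻¹) * (pr (dd w))⁻¹
        = (pr (dd w) * pr (dd w) * pr (dd w)) * (x : Matrix.ProjGenLinGroup (Fin 3) F) *
            (pr (dd w) * pr (dd w) * pr (dd w))⁻¹ := by group
      _ = x := by rw [hdd3]; group
  · show pr (four hw hw1) * pr (four hw hw1) = pr negSwap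
    rw [← map_mul, four_sq]
  · show pr (dd w) * pr (four hw hw1) * (pr (dd w))⁻¹ = pr (four' hw hw1)
    rw [four', map_mul, map_mul, map_inv]
  · show pr (four' hw hw1) * pr (four hw hw1) * (pr (four' hw hw1))⁻¹ = pr negSwap * pr (four hw hw1)
    rw [← map_mul, four'_mul_four, map_mul, map_mul, mul_inv_cancel_right]

/-- Normalisation or everything. -/
theorem acts_or_su (hp : p.Prime) (hF : Fintype.card F = p ^ 2) (hp3 : p % 3 = 2) (hw : w ^ 3 = 1) (hw1 : w ≠ 1)
    {Γ : Subgroup G3} (hiso : ∀ g ∈ Γ, Isom p g) (mA : dia (A w) ∈ Γ) (mC : cyc ∈ Γ) (mJ : (negSwap : G3) ∈ Γ)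
    (mf : four hw hw1 ∈ Γ) (mf' : four' hw hw1 ∈ Γ) (md : dd w ∈ Γ) :
    (∀ g ∈ Γ, ∃ M : S2, Acts w g M) ∨ (p ≠ 2 ∧ GU 3 F p ⊓ Geo.specialLinear (Fin 3) F ≤ Γ) := by
  rcases eq_or_ne p 2 with rfl | hp2
  · exact Or.inl fun g hg => acts_two hF hw hw1 (hiso g hg)
  rcases SUThree.Hess.acts_or hp hF hp3 hp2 hw hw1 hiso mA mC mJ mf mf' with h | h | ⟨-, h⟩
  · exact Or.inl h
  · exact Or.inr ⟨hp2, h⟩
  refine (false_of_dd h fun x hx => Subgroup.mem_inf.2 ⟨mul_mem (mul_mem md hx.1) (inv_mem md), ?_⟩).elim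
  exact (LinNine.mem_sl _).2 (by rw [Units.val_mul, Units.val_mul, Matrix.det_units_conj, (LinNine.mem_sl _).1 hx.2])

end Cfsg.Agent.Classical.UnitNine
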