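import Cfsg.Agent.Lib.Classical.LinNine.Frame
import Cfsg.Agent.Lib.Classical.SUThree.HessUnip

/-!
Degree nine, unitary case: a group of symplectic type inside the similarities of the standard hermitian form is the
standard one in some basis, and in that basis the form is a scalar multiple of the standard one.
-/

set_option autoImplicit false
set_option linter.unusedSectionVars false
set_option maxHeartbeats 1000000

namespace Cfsg.Agent.Classical.UnitNine

open Matrix HeisenbergThree LinNine SLThree.Hessian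

universe u

variable {F : Type u} [Field F] [Fintype F] {p : ℕ} {R : Subgroup (GL (Fin 9) F)}

local notation "I9" => (Fin 3 × Fin 3)
local notation "G9" => GL (Fin 3 × Fin 3) F
local notation "GN" => GL (Fin 9) F
local notation "MN" => Matrix (Fin 9) (Fin 9) F

/-- The frame for a group of symplectic type of similarities of the hermitian form. -/
theorem exists_unitary_frame (hp : p.Prime) (hF : Fintype.card F = p ^ 2) (hp3 : p % 3 = 2)
    (hsy : Geo.IsSymplecticTypeGroup 3 R) (hirr : Geo.ActsAbsolutelyIrreducibly (Geo.matrixSet R))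
    (hsim : R ≤ Geo.similarityGroup (hermForm 9 F p)) (hcard : Nat.card R = 243)
    (hz : Nat.card (Subgroup.center R) = 3) :
    ∃ (w : Fˣ) (φ : G9 →* GN), w ^ 3 = 1 ∧ w ≠ 1 ∧ Function.Bijective φ ∧
      (∀ g : G9, (φ g : MN).det = (g : Matrix I9 I9 F).det) ∧ R = (std9 w).map φ ∧
      ∀ g : G9, φ g ∈ GU 9 F p ↔ ∀ x y : I9 → F,
        ∑ i, ((g : Matrix I9 I9 F) *ᵥ x) i * (((g : Matrix I9 I9 F) *ᵥ y) i) ^ p = ∑ i, x i * y i ^ p := by
  classical
  haveI : Fact p.Prime := ⟨hp⟩
  haveI : CharP F p := SUThree.Hess.charP_of_card_sq hF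
  have h3 : (3 : F) ≠ 0 := fun e => by
    have h := (Nat.prime_dvd_prime_iff_eq hp Nat.prime_three).1
      ((CharP.cast_eq_zero_iff F p 3).1 (by exact_mod_cast e))
    rw [h] at hp3
    norm_num at hp3
  obtain ⟨w, φ, hw, hw1, hφ, hdet, hR, Q, hQ, hφQ⟩ := exists_frame h3 hsy hirr hz (by omega)
  have hww : ∀ a : F, (a ^ p) ^ p = a := fun a => by
    rw [← pow_mul, ← pow_two, ← hF, FiniteField.pow_card]
  -- the pulled back form
  obtain ⟨B, hB⟩ : ∃ B : (I9 → F) → (I9 → F) → F, B = fun x y => hermForm 9 F p (Q *ᵥ x) (Q *ᵥ y) := ⟨_, rfl⟩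
  have hBg : ∀ (g : G9) (x y : I9 → F), hermForm 9 F p ((φ g : MN) *ᵥ (Q *ᵥ x)) ((φ g : MN) *ᵥ (Q *ᵥ y)) =
      B ((g : Matrix I9 I9 F) *ᵥ x) ((g : Matrix I9 I9 F) *ᵥ y) := fun g x y => by
    simp only [hB, Matrix.mulVec_mulVec, hφQ]
  obtain ⟨H, hH⟩ : ∃ H : I9 → I9 → F, H = fun a b => B (Pi.single a 1) (Pi.single b 1) := ⟨_, rfl⟩
  have hexp : ∀ x y : I9 → F, B x y = ∑ a, ∑ b, x a * (y b) ^ p * H a b := by
    intro x y
    have hH' : ∀ a b, H a b = ∑ r, Q r a * Q r b ^ p := fun a b => by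
      simp only [hH, hB, hermForm, Matrix.mulVec_single_one, Matrix.col_apply]
    simp only [hB, hH', hermForm, Matrix.mulVec, dotProduct, Finset.sum_mul, sum_pow_char, mul_pow, Finset.mul_sum]
    rw [Finset.sum_comm, Finset.sum_congr rfl fun _ _ => Finset.sum_comm, Finset.sum_comm]
    refine Finset.sum_congr rfl fun a _ => Finset.sum_congr rfl fun b _ => Finset.sum_congr rfl fun r _ => ?_
    ring
  have hsym : ∀ x, B x x ^ p = B x x := by
    intro x
    simp only [hB, hermForm, sum_pow_char, mul_pow]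
    exact Finset.sum_congr rfl fun r _ => by rw [hww, mul_comm]
  have hQs : Function.Surjective fun x : I9 → F => Q *ᵥ x := by
    have hinj : Function.Injective Q.mulVecLin := LinearMap.ker_eq_bot.1 (LinearMap.ker_eq_bot'.2 fun z hz' => hQ z (by simpa using hz'))
    exact (LinearMap.injective_iff_surjective_of_finrank_eq_finrank (by simp)).1 hinj
  have hne : ∃ x : I9 → F, B x x ≠ 0 := by
    obtain ⟨x, hx⟩ := hQs (Pi.single 0 1)
    refine ⟨x, ?_⟩
    simp only at hx
    rw [hB]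
    simp only [hx, hermForm]
    simp [Pi.single_apply, hp.ne_zero]
  have hinv : ∀ s ∈ std9 w, ∀ x y : I9 → F, B ((s : Matrix I9 I9 F) *ᵥ x) ((s : Matrix I9 I9 F) *ᵥ y) = B x y := by
    intro s hs
    obtain ⟨c, hc⟩ := hsim (show φ s ∈ R by rw [hR]; exact ⟨s, hs, rfl⟩)
    have hc' : ∀ x y, B ((s : Matrix I9 I9 F) *ᵥ x) ((s : Matrix I9 I9 F) *ᵥ y) = (c : F) * B x y := fun x y => by
      rw [← hBg, hc, hB]
    obtain ⟨x₀, hx₀⟩ := hne
    have hcp : (c : F) ^ p = c := by
      have h1 := hsym ((s : Matrix I9 I9 F) *ᵥ x₀)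
      rw [hc', mul_pow, hsym] at h1
      exact mul_right_cancel₀ hx₀ h1
    have hc3 : (c : F) ^ 3 = 1 := by
      have e : (((s ^ 3 : G9) : Matrix I9 I9 F)) = 1 := by rw [std9_cube hw hw1 hs, Units.val_one]
      rw [Units.val_pow_eq_pow_val, pow_three, ← mul_assoc] at e
      have h1 : B x₀ x₀ = (c : F) * ((c : F) * ((c : F) * B x₀ x₀)) := by
        rw [← hc', ← hc', ← hc', Matrix.mulVec_mulVec, Matrix.mulVec_mulVec, e, Matrix.one_mulVec]
      refine mul_right_cancel₀ hx₀ ?_
      rw [one_mul]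
      conv_rhs => rw [h1]
      ring
    intro x y
    rw [hc', SUThree.Hess.one_of_cube hp3 hc3 hcp, one_mul]
  -- the form in the frame
  obtain ⟨hw3, hsum⟩ := sum_pow hw hw1
  have hwp : (w : F) ^ p = (w : F) ^ 2 := by
    conv_lhs => rw [← Nat.mod_add_div p 3, hp3, pow_add, pow_mul, hw3, one_pow, mul_one]
  have hw1' : (w : F) ≠ 1 := fun e => hw1 (Units.ext e)
  have hdiag : ∀ (f : I9 → Fin 3) (s : G9), s ∈ std9 w →
      (∀ a, (s : Matrix I9 I9 F) *ᵥ Pi.single a 1 = (w : F) ^ (f a : ℕ) • Pi.single a 1) →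
      ∀ a b, H a b ≠ 0 → f a = f b := by
    intro f s hs hsa a b hab
    have h1 := hinv s hs (Pi.single a 1) (Pi.single b 1)
    have hlin : ∀ (t u : F) (x y : I9 → F), B (t • x) (u • y) = t * u ^ p * B x y := fun t u x y => by
      simp only [hB, hermForm, Matrix.mulVec_smul, Pi.smul_apply, smul_eq_mul, mul_pow, Finset.mul_sum]
      exact Finset.sum_congr rfl fun r _ => by ring
    rw [hsa, hsa, hlin, ← pow_mul, mul_comm _ p, pow_mul, hwp, ← pow_mul, ← pow_add] at h1
    have h2 : (w : F) ^ ((f a : ℕ) + 2 * (f b : ℕ)) = 1 := by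
      have h4 : (w : F) ^ ((f a : ℕ) + 2 * (f b : ℕ)) * H a b = H a b := by rw [hH]; exact h1
      exact mul_right_cancel₀ hab (by rw [h4, one_mul])
    have h3' := orderOf_dvd_of_pow_eq_one h2
    rw [orderOf_eq_prime (p := 3) hw3 hw1'] at h3'
    have := (f a).isLt
    have := (f b).isLt
    exact Fin.ext (by omega)
  have hoff : ∀ a b, a ≠ b → H a b = 0 := by
    intro a b hab
    by_contra hn
    refine hab (Prod.ext ?_ ?_)
    · refine hdiag Prod.fst (kr (dia (A w), 1)) (kr_mem_std9 (dia_A_mem w) (one_mem _)) (fun c => ?_) a b hn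
      funext r
      rw [← one_dia, kr_dia, Matrix.mulVec_diagonal]
      rcases eq_or_ne r c with rfl | hrc
      · simp [A]
      · simp [hrc]
    · refine hdiag Prod.snd (kr (1, dia (A w))) (kr_mem_std9 (one_mem _) (dia_A_mem w)) (fun c => ?_) a b hn
      funext r
      rw [← one_dia, kr_dia, Matrix.mulVec_diagonal]
      rcases eq_or_ne r c with rfl | hrc
      · simp [A]
      · simp [hrc]
  have hshift : ∀ (s : G9), s ∈ std9 w → ∀ a b, (s : Matrix I9 I9 F) *ᵥ Pi.single a 1 = Pi.single b 1 →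
      H b b = H a a := by
    intro s hs a b e
    have h1 := hinv s hs (Pi.single a 1) (Pi.single a 1)
    rw [e] at h1
    rw [hH]; exact h1
  have hone1 : ∀ a : I9, H (a.1 + 1, a.2) (a.1 + 1, a.2) = H a a := fun a =>
    hshift (kr (cyc, 1)) (kr_mem_std9 (cyc_mem w) (one_mem _)) a _ (by
      funext r
      rw [Matrix.mulVec_single_one, Matrix.col_apply, kr_apply, cyc_apply, Units.val_one, Matrix.one_apply]
      rcases r with ⟨c, d⟩
      simp only [Pi.single_apply, Prod.mk.injEq]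
      by_cases h1 : c = a.1 + 1 <;> by_cases h2 : d = a.2 <;> simp [h1, h2])
  have hone2 : ∀ a : I9, H (a.1, a.2 + 1) (a.1, a.2 + 1) = H a a := fun a =>
    hshift (kr (1, cyc)) (kr_mem_std9 (one_mem _) (cyc_mem w)) a _ (by
      funext r
      rw [Matrix.mulVec_single_one, Matrix.col_apply, kr_apply, cyc_apply, Units.val_one, Matrix.one_apply]
      rcases r with ⟨c, d⟩
      simp only [Pi.single_apply, Prod.mk.injEq]
      by_cases h1 : c = a.1 <;> by_cases h2 : d = a.2 + 1 <;> simp [h1, h2])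
  obtain ⟨h, hh⟩ : ∃ h, h = H (0, 0) (0, 0) := ⟨_, rfl⟩
  have hall : ∀ a, H a a = h := by
    rintro ⟨i, j⟩
    have e1 := hone1 (0, j)
    have e2 := hone1 (1, j)
    have e3 := hone2 (0, 0)
    have e4 := hone2 (0, 1)
    simp only [zero_add, show (1 : Fin 3) + 1 = 2 from rfl] at e1 e2 e3 e4
    have hj : H (0, j) (0, j) = h := by
      fin_cases j
      · exact hh.symm
      · exact e3.trans hh.symm
      · exact e4.trans (e3.trans hh.symm)
    fin_cases i
    · exact hj
    · exact e1.trans hj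
    · exact e2.trans (e1.trans hj)
  have hform : ∀ x y : I9 → F, B x y = h * ∑ i, x i * y i ^ p := by
    intro x y
    rw [hexp, Finset.mul_sum]
    refine Finset.sum_congr rfl fun a _ => ?_
    rw [Finset.sum_eq_single a (fun b _ hb => by rw [hoff a b (Ne.symm hb), mul_zero]) (by simp), hall]
    ring
  have hh0 : h ≠ 0 := fun e => by
    obtain ⟨x, hx⟩ := hne
    exact hx (by rw [hform, e, zero_mul])
  refine ⟨w, φ, hw, hw1, hφ, hdet, hR, fun g => ⟨fun hg x y => ?_, fun hg u v => ?_⟩⟩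
  · have h1 := hg (Q *ᵥ x) (Q *ᵥ y)
    rw [Units.coeHom_apply, hBg, hform] at h1
    have h2 : B x y = hermForm 9 F p (Q *ᵥ x) (Q *ᵥ y) := by rw [hB]
    rw [← h2, hform] at h1
    exact mul_left_cancel₀ hh0 h1
  · obtain ⟨x, rfl⟩ := hQs u
    obtain ⟨y, rfl⟩ := hQs v
    rw [Units.coeHom_apply, hBg, hform, hg, ← hform, hB]

end Cfsg.Agent.Classical.UnitNine
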