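import Cfsg.Agent.Lib.Classical.UnitNine.Base
import Cfsg.Agent.Lib.Classical.MaxUnitWreathMain
import Cfsg.Agent.Lib.Classical.LinFour.UnitGen

/-!
Degree nine: a group of isometries with a single block sign change and single block diagonal elements contains all
monomial isometries of determinant one, so with one further element all of the special unitary group.
-/

set_option autoImplicit false
set_option linter.unusedSectionVars false
set_option maxHeartbeats 1000000

namespace Cfsg.Agent.Classical.UnitNine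

open Matrix MaxTv HeisenbergThree SLThree.Hessian LinNine
open MaxUnitMon (dot)

universe u

variable {F : Type u} [Field F] [Fintype F] {p : ℕ} {w : Fˣ} {K : Subgroup (GL (Fin 3 × Fin 3) F)}

local notation "G3" => GL (Fin 3) F
local notation "M3" => Matrix (Fin 3) (Fin 3) F
local notation "I9" => (Fin 3 × Fin 3)
local notation "G9" => GL (Fin 3 × Fin 3) F
local notation "M9" => Matrix (Fin 3 × Fin 3) (Fin 3 × Fin 3) F

local notation "e9" => (finProdFinEquiv : (Fin 3 × Fin 3) ≃ Fin 9)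

/-- The diagonal elements of degree nine. -/
def diag9 : (Fin 3 × Fin 3 → Fˣ) →* GL (Fin 3 × Fin 3) F :=
  (Units.map (Matrix.diagonalRingHom (Fin 3 × Fin 3) F).toMonoidHom).comp (MulEquiv.piUnits.symm.toMonoidHom)

theorem coe_diag9 (δ : I9 → Fˣ) : ((diag9 δ : G9) : M9) = Matrix.diagonal fun i => (δ i : F) := rfl

/-- The permutations attained by monomial members. -/
def perms (K : Subgroup (GL (Fin 3 × Fin 3) F)) : Submonoid (Equiv.Perm (Fin 3 × Fin 3)) where
  carrier := {π | ∃ g ∈ K, ∀ i x, i ≠ π x → (g : Matrix (Fin 3 × Fin 3) (Fin 3 × Fin 3) F) i x = 0}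
  one_mem' := ⟨1, one_mem _, fun i x h => by rw [Units.val_one, Matrix.one_apply_ne (by simpa using h)]⟩
  mul_mem' := by
    rintro π σ ⟨g, hg, hgπ⟩ ⟨h, hh, hhσ⟩
    refine ⟨g * h, mul_mem hg hh, fun i x hix => ?_⟩
    rw [Units.val_mul, Matrix.mul_apply]
    refine Finset.sum_eq_zero fun r _ => ?_
    by_cases hr : r = σ x
    · rw [hgπ i r (by rw [hr]; exact hix), zero_mul]
    · rw [hhσ r x hr, mul_zero]

theorem perm_inv_mem {π : Equiv.Perm I9} (h : π ∈ perms K) : π⁻¹ ∈ perms K := by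
  rw [show π⁻¹ = π ^ (orderOf π - 1) from inv_eq_of_mul_eq_one_right (by
    rw [← pow_succ', Nat.sub_add_cancel (orderOf_pos π), pow_orderOf_eq_one])]
  exact pow_mem h _

theorem swap_conj_mem {π : Equiv.Perm I9} (hπ : π ∈ perms K) {x y : I9} (h : Equiv.swap x y ∈ perms K) :
    Equiv.swap (π x) (π y) ∈ perms K := by
  rw [Equiv.swap_apply_apply]
  exact mul_mem (mul_mem hπ h) (perm_inv_mem hπ)

theorem perms_eq_top (hP : kr ((cyc : G3), (1 : G3)) ∈ K) (hQ : kr ((1 : G3), (cyc : G3)) ∈ K) (msw : (sw : G9) ∈ K)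
    (hJ : blk (Pi.mulSingle 2 (negSwap : G3)) ∈ K) (π : Equiv.Perm I9) : π ∈ perms K := by
  have hr : (Equiv.prodCongr (Equiv.addRight 1) (Equiv.refl (Fin 3)) : Equiv.Perm I9) ∈ perms K := by
    refine ⟨_, hP, ?_⟩
    rintro ⟨b, a⟩ ⟨b', a'⟩ h
    rw [kr_apply, cyc_apply, Units.val_one, Matrix.one_apply]
    simp at h
    split_ifs <;> simp_all
  have hq : (Equiv.prodCongr (Equiv.refl (Fin 3)) (Equiv.addRight 1) : Equiv.Perm I9) ∈ perms K := by
    refine ⟨_, hQ, ?_⟩
    rintro ⟨b, a⟩ ⟨b', a'⟩ h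
    rw [kr_apply, cyc_apply, Units.val_one, Matrix.one_apply]
    simp at h
    split_ifs <;> simp_all
  have hs : (Equiv.prodComm (Fin 3) (Fin 3) : Equiv.Perm I9) ∈ perms K := by
    refine ⟨_, msw, fun i x h => ?_⟩
    exact if_neg h
  have h0 : Equiv.swap ((1, 2) : I9) (2, 2) ∈ perms K := by
    refine ⟨_, hJ, ?_⟩
    rintro ⟨b, a⟩ ⟨b', a'⟩ h
    rw [blk_apply]
    fin_cases a <;> fin_cases a' <;> fin_cases b <;> fin_cases b' <;>
      simp [Equiv.swap_apply_def, Pi.mulSingle, coe_negSwap] at h ⊢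
  have hcol : ∀ b b' a : Fin 3, b ≠ b' → Equiv.swap ((b, a) : I9) (b', a) ∈ perms K := by
    have hstep : ∀ {b b' a : Fin 3}, Equiv.swap ((b, a) : I9) (b', a) ∈ perms K →
        Equiv.swap ((b + 1, a) : I9) (b' + 1, a) ∈ perms K ∧ Equiv.swap ((b, a + 1) : I9) (b', a + 1) ∈ perms K :=
      fun h => ⟨swap_conj_mem hr h, swap_conj_mem hq h⟩
    have h12 : ∀ a : Fin 3, Equiv.swap ((1, a) : I9) (2, a) ∈ perms K := fun a => by
      have h1 := (hstep h0).2
      have h2 := (hstep h1).2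
      fin_cases a
      exacts [h1, h2, h0]
    intro b b' a hb
    have h1 := (hstep (h12 a)).1
    have h2 := (hstep h1).1
    fin_cases b <;> fin_cases b' <;> first
      | exact absurd rfl hb
      | exact h12 a
      | (rw [Equiv.swap_comm]; exact h12 a)
      | exact h1
      | (rw [Equiv.swap_comm]; exact h1)
      | exact h2
      | (rw [Equiv.swap_comm]; exact h2)
  have hrow : ∀ b a a' : Fin 3, a ≠ a' → Equiv.swap ((b, a) : I9) (b, a') ∈ perms K := fun b a a' ha =>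
    swap_conj_mem hs (hcol a a' b ha)
  have hall : ∀ x y : I9, x ≠ y → Equiv.swap x y ∈ perms K := by
    rintro ⟨b, a⟩ ⟨b', a'⟩ hne
    by_cases ha : a = a'
    · subst ha; exact hcol b b' a (fun e => hne (by rw [e]))
    by_cases hb : b = b'
    · subst hb; exact hrow b a a' ha
    have h := swap_conj_mem (hrow b' a a' ha) (hcol b b' a hb)
    rwa [Equiv.swap_apply_of_ne_of_ne (by simp [hb]) (by simp [hb]), Equiv.swap_apply_left] at h
  have hle : Submonoid.closure {σ : Equiv.Perm I9 | σ.IsSwap} ≤ perms K := Submonoid.closure_le.2 (by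
    rintro σ ⟨x, y, hne, rfl⟩
    exact hall x y hne)
  rw [Equiv.Perm.mclosure_isSwap] at hle
  exact hle trivial

theorem col_ne (g : G9) {π : Equiv.Perm I9} (h : ∀ i x, i ≠ π x → (g : M9) i x = 0) (x : I9) :
    (g : M9) (π x) x ≠ 0 := fun e => by
  have h1 := congrFun (congrFun (show ((g⁻¹ : G9) : M9) * (g : M9) = 1 by rw [← Units.val_mul]; simp) x) x
  rw [Matrix.mul_apply, Finset.sum_eq_zero fun r _ => ?_, Matrix.one_apply_eq] at h1
  · exact zero_ne_one h1
  · by_cases hr : r = π x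
    · rw [hr, e, mul_zero]
    · rw [h r x hr, mul_zero]

theorem iso_diag9 (hp : p ≠ 0) {δ : I9 → Fˣ} (h : Isom p (diag9 δ : G9)) (x : I9) : δ x ^ (p + 1) = 1 := by
  have h1 := h (Pi.single x 1) (Pi.single x 1)
  simp only [coe_diag9, Matrix.mulVec_diagonal] at h1
  rw [Finset.sum_eq_single x (fun i _ hi => by simp [Pi.single_eq_of_ne hi]) (by simp),
    Finset.sum_eq_single x (fun i _ hi => by simp [Pi.single_eq_of_ne hi]) (by simp)] at h1
  simp at h1
  exact Units.ext (by rw [Units.val_pow_eq_pow_val, pow_succ', h1, Units.val_one])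

/-- The monomial isometries of determinant one are members. -/
theorem mon_mem (hp : p ≠ 0) (hiso : ∀ g ∈ K, Isom p g) (hdet : ∀ g ∈ K, (g : M9).det = 1)
    (hP : kr ((cyc : G3), (1 : G3)) ∈ K) (hQ : kr ((1 : G3), (cyc : G3)) ∈ K) (msw : (sw : G9) ∈ K)
    (hJ : blk (Pi.mulSingle 2 (negSwap : G3)) ∈ K)
    (hs : ∀ s : Fˣ, s ^ (p + 1) = 1 → blk (Pi.mulSingle 2 (dia ![s, s⁻¹, 1] : G3)) ∈ K)
    {m : G9} (hmi : Isom p m) (hmd : (m : M9).det = 1) {π : Equiv.Perm I9}
    (hm : ∀ i x, i ≠ π x → (m : M9) i x = 0) : m ∈ K := by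
  classical
  have htop := perms_eq_top hP hQ msw hJ
  obtain ⟨g, hgK, hg⟩ := htop π
  have hpair0 : ∀ s : Fˣ, s ^ (p + 1) = 1 →
      diag9 (Pi.mulSingle ((0, 2) : I9) s * Pi.mulSingle ((1, 2) : I9) s⁻¹) ∈ K := fun s hsp => by
    have e : blk (Pi.mulSingle 2 (dia ![s, s⁻¹, 1] : G3)) =
        diag9 (Pi.mulSingle ((0, 2) : I9) s * Pi.mulSingle ((1, 2) : I9) s⁻¹) := by
      refine Units.ext ?_
      ext ⟨b, a⟩ ⟨b', a'⟩
      rw [blk_apply, coe_diag9, Matrix.diagonal_apply]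
      fin_cases a <;> fin_cases a' <;> fin_cases b <;> fin_cases b' <;> simp [Pi.mulSingle, coe_dia]
    exact e ▸ hs s hsp
  have hperm : ∀ {δ : I9 → Fˣ} (σ : Equiv.Perm I9), diag9 δ ∈ K → diag9 (δ ∘ σ) ∈ K := fun {δ} σ hδ => by
    obtain ⟨u, huK, hu⟩ := htop σ
    have e : u * diag9 (δ ∘ σ) = diag9 δ * u := Units.ext (by
      ext i x
      rw [Units.val_mul, Units.val_mul, coe_diag9, coe_diag9, Matrix.mul_diagonal, Matrix.diagonal_mul]
      by_cases h : i = σ x
      · rw [h, mul_comm]; rfl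
      · rw [hu i x h, zero_mul, mul_zero])
    rw [show diag9 (δ ∘ σ) = u⁻¹ * (diag9 δ * u) by rw [← e, inv_mul_cancel_left]]
    exact mul_mem (inv_mem huK) (mul_mem hδ huK)
  have hpair : ∀ x y : I9, x ≠ y → ∀ s : Fˣ, s ^ (p + 1) = 1 →
      diag9 (Pi.mulSingle x s * Pi.mulSingle y s⁻¹) ∈ K := fun x y hxy s hsp => by
    obtain ⟨σ, h1, h2⟩ : ∃ σ : Equiv.Perm I9, σ x = (0, 2) ∧ σ y = (1, 2) := by
      obtain ⟨z, hz⟩ : ∃ z, z = Equiv.swap x (0, 2) y := ⟨_, rfl⟩
      refine ⟨Equiv.swap z (1, 2) * Equiv.swap x (0, 2), ?_, ?_⟩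
      · rw [Equiv.Perm.mul_apply, Equiv.swap_apply_left, Equiv.swap_apply_of_ne_of_ne ?_ (by simp)]
        rw [hz]
        exact fun e => hxy ((Equiv.swap x ((0, 2) : I9)).injective ((Equiv.swap_apply_left x ((0, 2) : I9)).trans e))
      · rw [Equiv.Perm.mul_apply, ← hz, Equiv.swap_apply_left]
    convert hperm σ (hpair0 s hsp) using 2
    funext i
    simp only [Pi.mul_apply, Function.comp_apply, Pi.mulSingle_apply, ← h1, ← h2, σ.injective.eq_iff]
  obtain ⟨δ, hδ⟩ : ∃ δ : I9 → Fˣ, ∀ x, (δ x : F) = (m : M9) (π x) x / (g : M9) (π x) x :=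
    ⟨fun x => Units.mk0 _ (div_ne_zero (col_ne m hm x) (col_ne g hg x)), fun x => rfl⟩
  have e : m = g * diag9 δ := Units.ext (by
    ext i x
    rw [Units.val_mul, coe_diag9, Matrix.mul_diagonal, hδ]
    by_cases h : i = π x
    · rw [h, mul_div_cancel₀ _ (col_ne g hg x)]
    · rw [hm i x h, hg i x h, zero_mul])
  rw [e]
  refine mul_mem hgK ?_
  have hdi : Isom p (diag9 δ : G9) := by
    rw [show diag9 δ = g⁻¹ * m by rw [e, inv_mul_cancel_left]]
    exact (isoGrp I9 F p).mul_mem ((isoGrp I9 F p).inv_mem (hiso g hgK)) hmi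
  have hprod : ∏ x, δ x = 1 := Units.ext (by
    rw [Units.coe_prod, Units.val_one, ← Matrix.det_diagonal, ← coe_diag9]
    rw [e, Units.val_mul, Matrix.det_mul, hdet g hgK, one_mul] at hmd
    exact hmd)
  obtain ⟨x0, hx0⟩ : ∃ x0 : I9, x0 = (0, 0) := ⟨_, rfl⟩
  have hdec : δ = ∏ x ∈ Finset.univ.erase x0, (Pi.mulSingle x (δ x) * Pi.mulSingle x0 (δ x)⁻¹) := by
    funext y
    rw [Finset.prod_apply]
    rw [← Finset.mul_prod_erase _ _ (Finset.mem_univ x0)] at hprod
    simp only [Pi.mul_apply, Pi.mulSingle_apply, Finset.prod_mul_distrib]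
    by_cases hy : y = x0
    · subst hy
      rw [Finset.prod_eq_one fun x hx => if_neg (Ne.symm (Finset.ne_of_mem_erase hx)), one_mul]
      simp only [if_true]
      rw [Finset.prod_inv_distrib]
      exact eq_inv_of_mul_eq_one_left hprod
    · rw [Finset.prod_eq_single y (fun x _ hx => if_neg (Ne.symm hx))
        (fun hn => absurd (Finset.mem_erase.2 ⟨hy, Finset.mem_univ y⟩) hn), if_pos rfl,
        Finset.prod_eq_one fun x _ => if_neg hy, mul_one]
  rw [hdec]
  refine Subgroup.mem_comap.1 (Subgroup.prod_mem (K.comap (diag9 (F := F))) ?_)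
  exact fun x hx => hpair x x0 (Finset.ne_of_mem_erase hx) _ (iso_diag9 hp hdi x)

/-- With an element which is not monomial everything is generated. -/
theorem false_of_singles (hp : p.Prime) (hF : Fintype.card F = p ^ 2) (hiso : ∀ g ∈ K, Isom p g)
    (hdet : ∀ g ∈ K, (g : M9).det = 1) (hP : kr ((cyc : G3), (1 : G3)) ∈ K) (hQ : kr ((1 : G3), (cyc : G3)) ∈ K)
    (msw : (sw : G9) ∈ K) {hw : w ^ 3 = 1} {hw1 : w ≠ 1} (mF : kr (four hw hw1, 1) ∈ K)
    (hJ : blk (Pi.mulSingle 2 (negSwap : G3)) ∈ K)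
    (hs : ∀ s : Fˣ, s ^ (p + 1) = 1 → blk (Pi.mulSingle 2 (dia ![s, s⁻¹, 1] : G3)) ∈ K)
    (noSU : ∃ g : G9, Isom p g ∧ (g : M9).det = 1 ∧ g ∉ K) : False := by
  classical
  obtain ⟨R, hR⟩ : ∃ R : G9 ≃* GL (Fin 9) F,
      R = Units.mapEquiv (Matrix.reindexAlgEquiv F F e9).toMulEquiv := ⟨_, rfl⟩
  have hent : ∀ (g : G9) i j, (R g : Matrix (Fin 9) (Fin 9) F) i j =
      (g : M9) ((e9).symm i) ((e9).symm j) := fun g i j => by rw [hR]; rfl
  have hRi : ∀ g : G9, Isom p g ↔ ∀ x y, dot (qEquiv hF) ((R g : Matrix (Fin 9) (Fin 9) F) *ᵥ x)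
      ((R g : Matrix (Fin 9) (Fin 9) F) *ᵥ y) = dot (qEquiv hF) x y := fun g => by
    have hmv : ∀ x, (R g : Matrix (Fin 9) (Fin 9) F) *ᵥ x =
        ((g : M9) *ᵥ (x ∘ e9)) ∘ (e9).symm := fun x => by
      funext i
      simp only [Matrix.mulVec, dotProduct, Function.comp_apply, hent]
      exact ((e9).sum_comp _).symm.trans (by simp)
    have hsum : ∀ x y : Fin 9 → F, dot (qEquiv hF) x y =
        ∑ i : I9, x (e9 i) * y (e9 i) ^ p := fun x y =>
      ((e9).sum_comp fun i => x i * y i ^ p).symm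
    simp only [hsum, hmv, Function.comp_apply, Equiv.symm_apply_apply]
    refine ⟨fun h x y => h _ _, fun h x y => ?_⟩
    have e : ∀ z : I9 → F, (fun i => z ((e9).symm (e9 i))) = z := fun z => by simp
    have := h (x ∘ (e9).symm) (y ∘ (e9).symm)
    simp only [Function.comp_def, e] at this
    simpa using this
  have hRd : ∀ g : G9, (R g : Matrix (Fin 9) (Fin 9) F).det = (g : M9).det := fun g => by
    rw [hR]; exact Matrix.det_reindex_self _ _
  have X : MaxUnitMon.Ctx (qEquiv hF) p (K.map R.toMonoidHom) := by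
    refine ⟨MaxUnitMon.circ_qEquiv hF, herm_hermForm hF, fun m hm hmi hmd => ?_, ?_, Or.inr (Or.inr (Or.inr
      (Or.inr (Or.inr (Fintype.card_fin 9)))))⟩
    · obtain ⟨g, rfl⟩ := R.surjective m
      obtain ⟨π, x, -, hπ⟩ := hm.exists_perm
      refine Subgroup.mem_map_of_mem _ (mon_mem hp.ne_zero hiso hdet hP hQ msw hJ hs ((hRi g).2 hmi)
        ((hRd g).symm.trans hmd) (π := ((e9).trans π).trans (e9).symm) fun i j hij => ?_)
      have h1 := congrFun (hπ (e9 j)) (e9 i)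
      rw [MaxMon.col_apply, hent, Equiv.symm_apply_apply, Equiv.symm_apply_apply,
        Pi.single_eq_of_ne fun e => hij ?_] at h1
      · exact h1
      · rw [Equiv.trans_apply, Equiv.trans_apply, ← e, Equiv.symm_apply_apply]
    · rintro _ ⟨g, hg, rfl⟩
      exact (hRi g).1 (hiso g hg)
  have hmon : ¬ MaxMon.IsMon (R (kr (four hw hw1, 1)) : Matrix (Fin 9) (Fin 9) F) := fun h => by
    obtain ⟨i, hi⟩ := h (e9 (0, 0))
    have hd := delta_ne (F := F) hw1
    have h0 := hi (e9 (0, 0))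
    have h1 := hi (e9 (1, 0))
    rw [hent, Equiv.symm_apply_apply] at h0 h1
    rcases eq_or_ne (e9 ((0, 0) : I9)) i with e | e
    · have := h1 (fun e' => by simpa using (e9).injective (e'.trans e.symm))
      simp [kr_apply, four, hd] at this
    · have := h0 e
      simp [kr_apply, four, hd] at this
  obtain ⟨g, hgi, hgd, hg⟩ := noSU
  refine hg ((Subgroup.mem_map_iff_mem (f := R.toMonoidHom) R.injective).1 ?_)
  refine LinFour.guSL_le_three hF (by norm_num) (by norm_num)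
    (MaxUnitMon.upt_all_mon X (Subgroup.mem_map_of_mem _ mF) hmon) ?_
  exact MaxUnitMon.mem_gu_sl.2 ⟨(hRi g).1 hgi, (hRd g).trans hgd⟩

end Cfsg.Agent.Classical.UnitNine
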