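import Cfsg.Agent.Lib.Classical.UnitNine.Dd
import Cfsg.Agent.Lib.Classical.UnitNine.Mon

/-!
Degree nine: a proper group of isometries above the normaliser of the standard group of order 243 has all blocks of
its block diagonal members in the normaliser of the standard group of order 27.
-/

set_option autoImplicit false
set_option linter.unusedSectionVars false
set_option maxHeartbeats 1000000

namespace Cfsg.Agent.Classical.UnitNine

open Matrix MaxTv HeisenbergThree SLThree.Hessian LinNine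

universe u

variable {F : Type u} [Field F] {w : Fˣ}

local notation "G3" => GL (Fin 3) F
local notation "M3" => Matrix (Fin 3) (Fin 3) F
local notation "I9" => (Fin 3 × Fin 3)
local notation "G9" => GL (Fin 3 × Fin 3) F
local notation "M9" => Matrix (Fin 3 × Fin 3) (Fin 3 × Fin 3) F

/-- A proper group of isometries above the standard normaliser. -/
structure Over [Fintype F] (w : Fˣ) (p : ℕ) (K : Subgroup (GL (Fin 3 × Fin 3) F)) : Prop where
  hw : w ^ 3 = 1
  hw1 : w ≠ 1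
  prime : p.Prime
  card : Fintype.card F = p ^ 2
  res : p % 3 = 2
  iso : ∀ g ∈ K, Isom p g
  det : ∀ g ∈ K, (g : Matrix (Fin 3 × Fin 3) (Fin 3 × Fin 3) F).det = 1
  above : ∀ g, g ∈ Subgroup.normalizer (std9 w : Set (GL (Fin 3 × Fin 3) F)) →
    (g : Matrix (Fin 3 × Fin 3) (Fin 3 × Fin 3) F).det = 1 → Isom p g → g ∈ K
  noSU : ∃ g : GL (Fin 3 × Fin 3) F, Isom p g ∧ (g : Matrix (Fin 3 × Fin 3) (Fin 3 × Fin 3) F).det = 1 ∧ g ∉ K

variable [Fintype F] {p : ℕ} {K : Subgroup (GL (Fin 3 × Fin 3) F)}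

theorem Over.two_ne (O : Over w p K) (h : p ≠ 2) : (2 : F) ≠ 0 := by
  haveI : Fact p.Prime := ⟨O.prime⟩
  haveI := SUThree.Hess.charP_of O.prime O.card
  intro e
  exact h ((Nat.prime_dvd_prime_iff_eq O.prime Nat.prime_two).1
    ((CharP.cast_eq_zero_iff F p 2).1 (by exact_mod_cast e)))

theorem Over.three_ne (O : Over w p K) : (3 : F) ≠ 0 := SUThree.Hess.three_ne_of O.prime O.card O.res

theorem Over.exists_mu (O : Over w p K) (h : p ≠ 2) : ∃ s : Fˣ, s ^ (p + 1) = 1 ∧ s ^ 3 ≠ 1 := by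
  obtain ⟨g, hg⟩ := IsCyclic.exists_ofOrder_eq_natCard (α := Fˣ)
  rw [Nat.card_units, Nat.card_eq_fintype_card, O.card] at hg
  have h3 : 3 ≤ p := lt_of_le_of_ne O.prime.two_le (Ne.symm h)
  obtain ⟨k, rfl⟩ : ∃ k, p = k + 3 := ⟨p - 3, by omega⟩
  have e : (k + 3 - 1) * (k + 3 + 1) = (k + 3) ^ 2 - 1 := by
    rw [show k + 3 - 1 = k + 2 by omega]
    ring_nf
    omega
  refine ⟨g ^ (k + 3 - 1), by rw [← pow_mul, e, ← hg, pow_orderOf_eq_one], fun h1 => ?_⟩
  rw [← pow_mul] at h1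
  have h2 := orderOf_dvd_of_pow_eq_one h1
  rw [hg, ← e] at h2
  have := Nat.le_of_dvd (Nat.mul_pos (by omega) (by norm_num)) h2
  have := Nat.le_of_mul_le_mul_left this (by omega)
  omega

theorem Over.kr_mem (O : Over w p K) {g h : G3} (hg : g ∈ Subgroup.normalizer (std w : Set G3))
    (hh : h ∈ Subgroup.normalizer (std w : Set G3)) (hd : (g : M3).det ^ 3 * (h : M3).det ^ 3 = 1)
    (hgi : Isom p g) (hhi : Isom p h) : kr (g, h) ∈ K :=
  O.above _ (kr_mem_normalizer hg hh) (by rw [det_kr, hd]) (kr_iso O.prime O.card hgi hhi)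

theorem Over.left_mem (O : Over w p K) {g : G3} (hg : g ∈ Subgroup.normalizer (std w : Set G3))
    (hd : (g : M3).det ^ 3 = 1) (hgi : Isom p g) : kr (g, 1) ∈ K :=
  O.kr_mem hg (one_mem _) (by rw [Units.val_one, Matrix.det_one, one_pow, mul_one, hd]) hgi one_iso

theorem det_dd_cube (hw : w ^ 3 = 1) (hw1 : w ≠ 1) : ((dd w : G3) : M3).det ^ 3 = 1 := by
  rw [det_dd, ← pow_mul, show 2 * 3 = 3 * 2 from rfl, pow_mul, (sum_pow hw hw1).1, one_pow]

theorem shr_iso (hp3 : p % 3 = 2) (hw : w ^ 3 = 1) (hw1 : w ≠ 1) : Isom p (shr (cyc : G3) : G9) :=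
  blk_iso fun a => (isoGrp (Fin 3) F p).pow_mem (std_iso hp3 hw hw1 (cyc_mem w)) _

theorem Over.msw (O : Over w p K) : (sw : G9) ∈ K :=
  O.above _ sw_mem_normalizer det_sw (sw_iso O.prime O.card)

theorem Over.msh (O : Over w p K) : shr (cyc : G3) ∈ K :=
  O.above _ (shr_mem_normalizer O.hw O.hw1) det_shr_cyc (shr_iso O.res O.hw O.hw1)

theorem Over.mC (O : Over w p K) : kr ((cyc : G3), 1) ∈ K :=
  O.left_mem (Subgroup.le_normalizer (cyc_mem w)) (by rw [det_cyc, one_pow]) (std_iso O.res O.hw O.hw1 (cyc_mem w))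

theorem Over.mC' (O : Over w p K) : kr (1, (cyc : G3)) ∈ K :=
  O.kr_mem (one_mem _) (Subgroup.le_normalizer (cyc_mem w)) (by simp [det_cyc]) one_iso
    (std_iso O.res O.hw O.hw1 (cyc_mem w))

theorem Over.mF (O : Over w p K) : kr (four O.hw O.hw1, 1) ∈ K :=
  O.left_mem (four_mem_normalizer O.hw O.hw1) (by rw [det_four O.hw O.hw1, one_pow])
    (SUThree.Hess.four_iso O.prime O.card O.res O.hw O.hw1)

theorem Over.mA (O : Over w p K) : kr ((dia (A w) : G3), 1) ∈ K :=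
  O.left_mem (Subgroup.le_normalizer (dia_A_mem w)) (by rw [det_dia_A O.hw O.hw1, one_pow])
    (std_iso O.res O.hw O.hw1 (dia_A_mem w))

theorem Over.shift (O : Over w p K) {d : Fin 3 → G3} (hd : blk d ∈ K) : blk (fun x => d (x - 1)) ∈ K := by
  rw [← shift_blk]
  exact mul_mem (mul_mem O.mC' hd) (inv_mem O.mC')

theorem dia3_iso {s : Fˣ} (hs : s ^ (p + 1) = 1) : Isom p (dia ![s, s⁻¹, 1] : G3) := fun x y => by
  refine Finset.sum_congr rfl fun i _ => ?_
  rw [coe_dia, Matrix.mulVec_diagonal, Matrix.mulVec_diagonal, mul_pow]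
  have h1 : ∀ i, ((![s, s⁻¹, 1] : Fin 3 → Fˣ) i : F) * ((![s, s⁻¹, 1] : Fin 3 → Fˣ) i : F) ^ p = 1 := fun i => by
    rw [← pow_succ', ← Units.val_pow_eq_pow_val,
      show (![s, s⁻¹, 1] : Fin 3 → Fˣ) i ^ (p + 1) = 1 by fin_cases i <;> simp [hs, inv_pow], Units.val_one]
  linear_combination x i * y i ^ p * h1 i

theorem Over.acts (O : Over w p K) {c : Fin 3 → G3} (hc : blk c ∈ K) (a : Fin 3) :
    ∃ M : Matrix (Fin 2) (Fin 2) (ZMod 3), Acts w (c a) M := by
  classical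
  haveI : Finite (GL (Fin 3) F) := Finite.of_injective _ Units.val_injective
  obtain ⟨Γ, hΓ⟩ : ∃ Γ : Fin 3 → Subgroup G3, ∀ a,
      Γ a = ((K.comap (blk (F := F))).map (Pi.evalMonoidHom (fun _ => G3) a)) := ⟨_, fun _ => rfl⟩
  have hconst : ∀ (b : Fin 3) {g : G3}, g ∈ Subgroup.normalizer (std w : Set G3) → (g : M3).det ^ 3 = 1 →
      Isom p g → g ∈ Γ b := fun b g hg hd hi => by
    rw [hΓ]
    exact ⟨fun _ => g, by show blk (fun _ => g) ∈ K; rw [blk_const]; exact O.left_mem hg hd hi, rfl⟩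
  have hΓi : ∀ g ∈ Γ a, Isom p g := fun g hg => by
    rw [hΓ] at hg
    obtain ⟨d, hd, rfl⟩ := hg
    exact iso_of_blk O.prime.ne_zero (O.iso _ hd) a
  rcases acts_or_su O.prime O.card O.res O.hw O.hw1 (Γ := Γ a) hΓi
      (hconst a (Subgroup.le_normalizer (dia_A_mem w)) (by rw [det_dia_A O.hw O.hw1, one_pow])
        (std_iso O.res O.hw O.hw1 (dia_A_mem w)))
      (hconst a (Subgroup.le_normalizer (cyc_mem w)) (by rw [det_cyc, one_pow])
        (std_iso O.res O.hw O.hw1 (cyc_mem w)))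
      (hconst a (negSwap_mem_normalizer O.hw) (by rw [det_negSwap, one_pow]) (negSwap_iso' O.prime O.card))
      (hconst a (four_mem_normalizer O.hw O.hw1) (by rw [det_four O.hw O.hw1, one_pow])
        (SUThree.Hess.four_iso O.prime O.card O.res O.hw O.hw1))
      (hconst a (four'_mem_normalizer O.hw O.hw1) (by rw [det_four' O.hw O.hw1, one_pow])
        (SUThree.Hess.four'_iso O.prime O.card O.res O.hw O.hw1))
      (hconst a (dd_mem_normalizer O.hw O.hw1) (det_dd_cube O.hw O.hw1)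
        (SUThree.Hess.dd_iso O.res O.hw O.hw1)) with h | ⟨hp2, h⟩
  · exact h (c a) (by rw [hΓ]; exact ⟨c, hc, rfl⟩)
  exfalso
  have hall : ∀ b, ∀ s : G3, Isom p s → (s : M3).det = 1 → ∃ d, blk d ∈ K ∧ d b = s := by
    have h0 : ∀ s : G3, Isom p s → (s : M3).det = 1 → ∃ d, blk d ∈ K ∧ d a = s := fun s hi hs => by
      have := h (Subgroup.mem_inf.2 ⟨mem_GU.2 hi, (LinNine.mem_sl s).2 hs⟩)
      rw [hΓ] at this
      exact this
    have hstep : ∀ b, (∀ s : G3, Isom p s → (s : M3).det = 1 → ∃ d, blk d ∈ K ∧ d b = s) →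
        ∀ s : G3, Isom p s → (s : M3).det = 1 → ∃ d, blk d ∈ K ∧ d (b + 1) = s := fun b hb s hi hs => by
      obtain ⟨d, hd, e⟩ := hb s hi hs
      exact ⟨_, O.shift hd, by simpa using e⟩
    intro b
    rcases (show ∀ n k : Fin 3, n = k ∨ n = k + 1 ∨ n = k + 1 + 1 by decide) b a with rfl | rfl | rfl
    exacts [h0, hstep _ h0, hstep _ (hstep _ h0)]
  -- one block alone
  have hci : kr ((cyc : G3)⁻¹, 1) ∈ K := by
    have := inv_mem O.mC
    rwa [kr_inv, inv_one] at this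
  obtain ⟨s, hsp, hs⟩ := O.exists_mu hp2
  obtain ⟨d, hd, hd2⟩ := hall 2 (dia ![s, s⁻¹, 1]) (dia3_iso hsp) (by
    rw [coe_dia, Matrix.det_diagonal, Fin.prod_univ_three]; simp)
  obtain ⟨u, huK, hu⟩ : ∃ u : G3, blk (Pi.mulSingle 2 u) ∈ K ∧
      u = dia (fun i => (![s ^ 3, (s ^ 3)⁻¹, 1] : Fin 3 → Fˣ) i) := by
    have e1 : ∀ f : Fin 3 → Fˣ, (cyc : G3) * dia f * (cyc : G3)⁻¹ * (dia f)⁻¹ = dia (prev f * f⁻¹) := fun f => by
      rw [cyc_mul_dia, mul_inv_cancel_right, ← map_inv, ← map_mul]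
    have e2 : ∀ f : Fin 3 → Fˣ, (cyc : G3) ^ 2 * dia f * ((cyc : G3) ^ 2)⁻¹ * (dia f)⁻¹ =
        dia (prev (prev f) * f⁻¹) := fun f => by
      rw [pow_two, mul_assoc cyc cyc, cyc_mul_dia, ← mul_assoc, cyc_mul_dia, mul_assoc (dia (prev (prev f))),
        mul_inv_cancel_right, ← map_inv, ← map_mul]
    have hf := mul_mem (mul_mem (mul_mem O.msh hd) (inv_mem O.msh)) (inv_mem hd)
    have hm := mul_mem hci O.msh
    have he := mul_mem (mul_mem (mul_mem hm hf) (inv_mem hm)) (inv_mem hf)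
    rw [shr, ← blk_const, ← map_inv, ← map_inv, ← map_mul, ← map_mul, ← map_mul, ← map_mul, ← map_inv, ← map_inv,
      ← map_mul, ← map_mul, ← map_mul] at he
    refine ⟨dia (prev (prev (prev ![s, s⁻¹, 1]) * (![s, s⁻¹, 1])⁻¹) *
      (prev (prev ![s, s⁻¹, 1]) * (![s, s⁻¹, 1])⁻¹)⁻¹), ?_, congrArg dia ?_⟩
    · convert he using 2
      funext x
      symm
      fin_cases x
      · simp
      · simp [Pi.mulSingle_eq_of_ne]
      · simp only [Pi.mul_apply, Pi.inv_apply]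
        show (cyc : G3)⁻¹ * cyc ^ 2 * (cyc ^ 2 * d 2 * (cyc ^ 2)⁻¹ * (d 2)⁻¹) * ((cyc : G3)⁻¹ * cyc ^ 2)⁻¹ *
          (cyc ^ 2 * d 2 * (cyc ^ 2)⁻¹ * (d 2)⁻¹)⁻¹ = (Pi.mulSingle 2 _ : Fin 3 → G3) 2
        rw [Pi.mulSingle_eq_same, hd2, e2, show (cyc : G3)⁻¹ * cyc ^ 2 = cyc by group, e1]
    · funext i
      fin_cases i <;> simp [prev] <;> refine Units.ext ?_ <;> simp <;> field_simp
  have hsc : ¬ Sc u := by
    rintro ⟨z, hz⟩
    rw [hu, coe_dia] at hz
    have h0 := congrFun (congrFun hz 0) 0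
    have h2 := congrFun (congrFun hz 2) 2
    simp at h0 h2
    exact hs (Units.ext (by simpa using h0.trans h2.symm))
  -- the normal subgroup it generates
  obtain ⟨N, hN⟩ : ∃ N : Subgroup (SU 3 F p),
      N = (K.comap ((blk (F := F)).comp (MonoidHom.mulSingle (fun _ => G3) 2))).comap (SUThree.toG F p) := ⟨_, rfl⟩
  have hmemN : ∀ n, n ∈ N ↔ blk (Pi.mulSingle 2 (SUThree.toG F p n) : Fin 3 → G3) ∈ K := fun n => by
    rw [hN]; rfl
  have hSU : ∀ n, Isom p (SUThree.toG F p n) ∧ ((SUThree.toG F p n : G3) : M3).det = 1 := fun n => by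
    have hm : SUThree.toG F p n ∈ (SUThree.toG F p).range := ⟨n, rfl⟩
    rw [SUThree.range_toG] at hm
    exact ⟨mem_GU.1 hm.1, (LinNine.mem_sl _).1 hm.2⟩
  have hlift : ∀ t : G3, Isom p t → (t : M3).det = 1 → ∃ n : SU 3 F p, SUThree.toG F p n = t := fun t hi hdt => by
    have hm : t ∈ GU 3 F p ⊓ Geo.specialLinear (Fin 3) F := Subgroup.mem_inf.2 ⟨mem_GU.2 hi, (LinNine.mem_sl t).2 hdt⟩
    rw [← SUThree.range_toG] at hm
    exact hm
  have hN' : N.Normal := ⟨fun n hn g => by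
    rw [hmemN] at hn ⊢
    obtain ⟨e, he, he2⟩ := hall 2 (SUThree.toG F p g) (hSU g).1 (hSU g).2
    have := mul_mem (mul_mem he hn) (inv_mem he)
    rw [← map_inv, ← map_mul, ← map_mul] at this
    convert this using 2
    funext x
    rcases eq_or_ne x 2 with rfl | hx
    · simp [he2]
    · simp [Pi.mulSingle_eq_of_ne hx]⟩
  have htop : N = ⊤ := by
    refine Fus.UnitTv.eq_top_of_not_central O.card le_rfl (fun h => hp2 h.2) hN' fun hle => hsc ?_
    obtain ⟨n, hn⟩ := hlift u (iso_of_blk O.prime.ne_zero (O.iso _ huK) 2 |> fun h => by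
      rwa [Pi.mulSingle_eq_same] at h) (by rw [hu, coe_dia, Matrix.det_diagonal, Fin.prod_univ_three]; simp)
    have hcen := Subgroup.mem_center_iff.1 (hle (show n ∈ N by rw [hmemN, hn]; exact huK))
    obtain ⟨nA, hnA⟩ := hlift (dia (A w)) (std_iso O.res O.hw O.hw1 (dia_A_mem w)) (det_dia_A O.hw O.hw1)
    obtain ⟨nC, hnC⟩ := hlift cyc (std_iso O.res O.hw O.hw1 (cyc_mem w)) det_cyc
    refine sc_of_commute O.hw O.hw1 ?_ ?_
    · have := congrArg (SUThree.toG F p) (hcen nA)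
      rw [map_mul, map_mul, hn, hnA] at this
      exact this.symm
    · have := congrArg (SUThree.toG F p) (hcen nC)
      rw [map_mul, map_mul, hn, hnC] at this
      exact this.symm
  have hsing : ∀ t : G3, Isom p t → (t : M3).det = 1 → blk (Pi.mulSingle 2 t) ∈ K := fun t hi hdt => by
    obtain ⟨n, rfl⟩ := hlift t hi hdt
    exact (hmemN n).1 (htop ▸ Subgroup.mem_top n)
  exact false_of_singles O.prime O.card O.iso O.det O.mC O.mC' O.msw O.mF
    (hsing _ (negSwap_iso' O.prime O.card) det_negSwap)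
    (fun t ht => hsing _ (dia3_iso ht) (by rw [coe_dia, Matrix.det_diagonal, Fin.prod_univ_three]; simp)) O.noSU

theorem Over.ov (O : Over w p K) : Ov w O.hw O.hw1 K := by
  haveI : Finite (GL (Fin 3) F) := Finite.of_injective _ Units.val_injective
  exact ⟨O.det, O.mA, O.mC, O.mF,
    O.left_mem (dd_mem_normalizer O.hw O.hw1) (det_dd_cube O.hw O.hw1) (SUThree.Hess.dd_iso O.res O.hw O.hw1),
    O.msw, O.msh, fun c hc a => O.acts hc a⟩

/-- No sign change of a single block. -/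
theorem Over.no_single (O : Over w p K) (h : blk (Pi.mulSingle 2 (negSwap : G3)) ∈ K) : False := by
  rcases ne_or_eq p 2 with hp2 | rfl
  · exact O.ov.no_single (O.two_ne hp2) h
  have hJA : (negSwap : G3) * dia (A w) * (negSwap : G3)⁻¹ * (dia (A w))⁻¹ = dia (A w) := by
    rw [inv_eq_of_mul_eq_one_right (negSwap_mul_self (F := F))]
    refine mul_inv_eq_iff_eq_mul.2 (Units.ext ?_)
    have h3 : (w : F) ^ 3 = 1 := (sum_pow O.hw O.hw1).1
    simp only [Units.val_mul, coe_negSwap, coe_dia]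
    ext i j
    fin_cases i <;> fin_cases j <;> simp [Matrix.mul_apply, Fin.sum_univ_three, A, Matrix.diagonal_apply, Matrix.vecMul_diagonal] <;>
      first
        | ring1
        | linear_combination -(w : F) * h3
        | linear_combination (w : F) * h3
  have hA2 : blk (Pi.mulSingle 2 (dia (A w) : G3)) ∈ K := by
    have := mul_mem (mul_mem (mul_mem h O.mA) (inv_mem h)) (inv_mem O.mA)
    rwa [blk_single_comm, hJA] at this
  have hC2 : blk (Pi.mulSingle 2 ((cyc : G3) * dia (A w) * (cyc : G3)⁻¹ * (dia (A w))⁻¹)) ∈ K := by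
    have hcy : (negSwap : G3) * cyc * (negSwap : G3)⁻¹ * (cyc : G3)⁻¹ = cyc := by
      rw [inv_eq_of_mul_eq_one_right (negSwap_mul_self (F := F))]
      refine mul_inv_eq_iff_eq_mul.2 (Units.ext ?_)
      simp only [Units.val_mul, coe_negSwap, coe_cyc]
      ext i j
      fin_cases i <;> fin_cases j <;> simp [Matrix.mul_apply, Fin.sum_univ_three]
    have h1 : blk (Pi.mulSingle 2 (cyc : G3)) ∈ K := by
      have := mul_mem (mul_mem (mul_mem h O.mC) (inv_mem h)) (inv_mem O.mC)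
      rwa [blk_single_comm, hcy] at this
    have := mul_mem (mul_mem (mul_mem h1 O.mA) (inv_mem h1)) (inv_mem O.mA)
    rwa [blk_single_comm] at this
  have hs : ∀ s : Fˣ, s ^ (2 + 1) = 1 → blk (Pi.mulSingle 2 (dia ![s, s⁻¹, 1] : G3)) ∈ K := fun s hs => by
    obtain ⟨k, -, rfl⟩ := cases_cube O.hw O.hw1 (t := s) hs
    have := pow_mem (mul_mem hA2 (pow_mem hC2 2)) k
    have e : ((cyc : G3) * dia (A w) * (cyc : G3)⁻¹ * (dia (A w))⁻¹) = dia (prev (A w) * (A w)⁻¹) := by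
      rw [cyc_mul_dia, mul_inv_cancel_right, ← map_inv, ← map_mul]
    obtain ⟨hw3, -⟩ := sum_pow O.hw O.hw1
    rw [← map_pow, ← map_mul, ← map_pow, e, ← Pi.mulSingle_pow, ← Pi.mulSingle_mul, ← Pi.mulSingle_pow, ← map_pow,
      ← map_mul, ← map_pow] at this
    have hw' : w * w * w = 1 := by rw [← O.hw, _root_.pow_three, mul_assoc]
    have hwi : w⁻¹ = w * w := inv_eq_of_mul_eq_one_right (by rw [← mul_assoc]; exact hw')
    have e2 : (A w * (prev (A w) * (A w)⁻¹) ^ 2) ^ k = ![w ^ k, (w ^ k)⁻¹, 1] := by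
      funext i
      fin_cases i <;> simp [prev, A, ← inv_pow, pow_two, hwi, ← mul_assoc, hw']
    rwa [e2] at this
  exact false_of_singles O.prime O.card O.iso O.det O.mC O.mC' O.msw O.mF h hs O.noSU

/-- Elements commuting with the block distinguishing element normalise. -/
theorem Over.mem_normalizer_of_commute (O : Over w p K) {g : G9} (hg : g ∈ K)
    (h : g * kr (1, dia (A w)) = kr (1, dia (A w)) * g) : g ∈ Subgroup.normalizer (std9 w : Set G9) := by
  obtain ⟨c, rfl⟩ := exists_blk O.hw O.hw1 h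
  exact O.ov.blk_mem O.no_single hg

end Cfsg.Agent.Classical.UnitNine
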